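import Cfsg.Agent.Spor.ONH2.D0

set_option autoImplicit false
set_option maxRecDepth 100000000
set_option Elab.async false

namespace Cfsg.Agent.Spor.ONH2

theorem ok0 : Net.okb 1 n0 = true := by decide +kernel

theorem ok1 : Net.okb 1 n1 = true := by decide +kernel

theorem ok2 : Net.okb 1 n2 = true := by decide +kernel

theorem ok3 : Net.okb 1 n3 = true := by decide +kernel

theorem ok4 : Net.okb 1 n4 = true := by decide +kernel

theorem ok5 : Net.okb 1 n5 = true := by decide +kernel

theorem ok6 : Net.okb 1 n6 = true := by decide +kernel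

theorem ok7 : Net.okb 1 n7 = true := by decide +kernel

theorem ok8 : Net.okb 1 n8 = true := by decide +kernel

theorem ok9 : Net.okb 1 n9 = true := by decide +kernel

theorem ok10 : Net.okb 1 n10 = true := by decide +kernel

theorem rel0 : T.rel 1 [1, 1] 0 1 = true := by decide +kernel

theorem rel1 : T.rel 1 [2, 2] 0 1 = true := by decide +kernel

theorem rel2 : T.rel 1 [3, 3] 0 1 = true := by decide +kernel

theorem rel3 : T.rel 1 [4, 4] 0 1 = true := by decide +kernel

theorem rel4 : T.rel 1 [5, 5] 0 1 = true := by decide +kernel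

theorem rel5 : T.rel 1 [6, 6] 0 1 = true := by decide +kernel

theorem rel6 : T.rel 1 [7, 1, 2] 0 1 = true := by decide +kernel

theorem rel7 : T.rel 1 [9, 1, 3] 0 1 = true := by decide +kernel

theorem rel8 : T.rel 1 [11, 1, 4] 0 1 = true := by decide +kernel

theorem rel9 : T.rel 1 [13, 1, 5] 0 1 = true := by decide +kernel

theorem rel10 : T.rel 1 [15, 1, 6] 0 1 = true := by decide +kernel

theorem rel11 : T.rel 1 [2, 1, 2, 1, 2, 1] 0 1 = true := by decide +kernel

theorem rel12 : T.rel 1 [3, 1, 3, 1] 0 1 = true := by decide +kernel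

theorem rel13 : T.rel 1 [4, 1, 4, 1] 0 1 = true := by decide +kernel

theorem rel14 : T.rel 1 [5, 1, 5, 1] 0 1 = true := by decide +kernel

theorem rel15 : T.rel 1 [6, 1, 6, 1] 0 1 = true := by decide +kernel

theorem rel16 : T.rel 1 [3, 2, 3, 2, 3, 2] 0 1 = true := by decide +kernel

theorem rel17 : T.rel 1 [4, 2, 4, 2] 0 1 = true := by decide +kernel

theorem rel18 : T.rel 1 [5, 2, 5, 2] 0 1 = true := by decide +kernel

theorem rel19 : T.rel 1 [6, 2, 6, 2] 0 1 = true := by decide +kernel

theorem rel20 : T.rel 1 [4, 3, 4, 3, 4, 3, 4, 3, 4, 3, 4, 3, 4, 3, 4, 3] 0 1 = true := by decide +kernel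

theorem rel21 : T.rel 1 [5, 3, 5, 3] 0 1 = true := by decide +kernel

theorem rel22 : T.rel 1 [6, 3, 6, 3] 0 1 = true := by decide +kernel

theorem rel23 : T.rel 1 [5, 4, 5, 4, 5, 4] 0 1 = true := by decide +kernel

theorem rel24 : T.rel 1 [6, 4, 6, 4] 0 1 = true := by decide +kernel

theorem rel25 : T.rel 1 [6, 5, 6, 5, 6, 5] 0 1 = true := by decide +kernel

theorem rel26 : T.rel 1 [3, 4, 3, 4, 3, 4, 3, 4, 6, 1] 0 1 = true := by decide +kernel

theorem hcov : T.treeCov (ones 2) L 1 = true := by decide +kernel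

theorem hg : lall (fun z => band (memL L z) (band (sub (ones 2) (T.let z).cl) (T.closed (ones 2) z))) gs = true := by decide +kernel

theorem rot1_1 : T.rot 1 [1] (sel (ones 2) ip1 1) = true := by decide +kernel

theorem rot1_1r : band (Rule.ok (2 * 6) EX RL ⟨1 :: [1], [], 16, false⟩) (lall (memL L) [1]) = true := by decide +kernel

theorem cov1 : T.cover 1 [(sel (ones 2) ip1 1)] = true := by decide +kernel

theorem tl1 : T.treeLt 1 1 = true := by decide +kernel

theorem rot2_1 : T.rot 2 [1, 8] (sel (ones 2) ip2 1) = true := by decide +kernel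

theorem rot2_1r : band (Rule.ok (2 * 6) EX RL ⟨2 :: [1, 8], [], 16, false⟩) (lall (memL L) [1, 8]) = true := by decide +kernel

theorem rot2_2 : T.rot 2 [7, 1] (sel (ones 2) ip2 2) = true := by decide +kernel

theorem rot2_2r : band (Rule.ok (2 * 6) EX RL ⟨2 :: [7, 1], [], 16, false⟩) (lall (memL L) [7, 1]) = true := by decide +kernel

theorem cov2 : T.cover 2 [(sel (ones 2) ip2 1), (sel (ones 2) ip2 2)] = true := by decide +kernel

theorem tl2 : Nat.beq (T.let 2).tt 0 = true := by decide +kernel

theorem rot3_1 : T.rot 3 [1, 10] (sel (ones 2) ip3 1) = true := by decide +kernel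

theorem rot3_1r : band (Rule.ok (2 * 6) EX RL ⟨3 :: [1, 10], [], 16, false⟩) (lall (memL L) [1, 10]) = true := by decide +kernel

theorem rot3_2 : T.rot 3 [9, 1] (sel (ones 2) ip3 2) = true := by decide +kernel

theorem rot3_2r : band (Rule.ok (2 * 6) EX RL ⟨3 :: [9, 1], [], 16, false⟩) (lall (memL L) [9, 1]) = true := by decide +kernel

theorem cov3 : T.cover 3 [(sel (ones 2) ip3 1), (sel (ones 2) ip3 2)] = true := by decide +kernel

theorem tl3 : Nat.beq (T.let 3).tt 0 = true := by decide +kernel

theorem rot4_1 : T.rot 4 [1, 12] (sel (ones 2) ip4 1) = true := by decide +kernel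

theorem rot4_1r : band (Rule.ok (2 * 6) EX RL ⟨4 :: [1, 12], [], 16, false⟩) (lall (memL L) [1, 12]) = true := by decide +kernel

theorem rot4_2 : T.rot 4 [11, 1] (sel (ones 2) ip4 2) = true := by decide +kernel

theorem rot4_2r : band (Rule.ok (2 * 6) EX RL ⟨4 :: [11, 1], [], 16, false⟩) (lall (memL L) [11, 1]) = true := by decide +kernel

theorem cov4 : T.cover 4 [(sel (ones 2) ip4 1), (sel (ones 2) ip4 2)] = true := by decide +kernel

theorem tl4 : Nat.beq (T.let 4).tt 0 = true := by decide +kernel

theorem rot5_1 : T.rot 5 [1, 14] (sel (ones 2) ip5 1) = true := by decide +kernel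

theorem rot5_1r : band (Rule.ok (2 * 6) EX RL ⟨5 :: [1, 14], [], 16, false⟩) (lall (memL L) [1, 14]) = true := by decide +kernel

theorem rot5_2 : T.rot 5 [13, 1] (sel (ones 2) ip5 2) = true := by decide +kernel

theorem rot5_2r : band (Rule.ok (2 * 6) EX RL ⟨5 :: [13, 1], [], 16, false⟩) (lall (memL L) [13, 1]) = true := by decide +kernel

theorem cov5 : T.cover 5 [(sel (ones 2) ip5 1), (sel (ones 2) ip5 2)] = true := by decide +kernel

theorem tl5 : Nat.beq (T.let 5).tt 0 = true := by decide +kernel

theorem rot6_1 : T.rot 6 [1, 16] (sel (ones 2) ip6 1) = true := by decide +kernel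

theorem rot6_1r : band (Rule.ok (2 * 6) EX RL ⟨6 :: [1, 16], [], 16, false⟩) (lall (memL L) [1, 16]) = true := by decide +kernel

theorem rot6_2 : T.rot 6 [15, 1] (sel (ones 2) ip6 2) = true := by decide +kernel

theorem rot6_2r : band (Rule.ok (2 * 6) EX RL ⟨6 :: [15, 1], [], 16, false⟩) (lall (memL L) [15, 1]) = true := by decide +kernel

theorem cov6 : T.cover 6 [(sel (ones 2) ip6 1), (sel (ones 2) ip6 2)] = true := by decide +kernel

theorem tl6 : Nat.beq (T.let 6).tt 0 = true := by decide +kernel

theorem cov7 : T.cover 7 [1] = true := by decide +kernel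

theorem tl7 : Nat.beq (T.let 7).tt 0 = true := by decide +kernel

theorem rot8_1 : T.rot 8 [7] (sel (ones 2) ip8 1) = true := by decide +kernel

theorem rot8_1r : band (Rule.ok (2 * 6) EX RL ⟨8 :: [7], [], 16, false⟩) (lall (memL L) [7]) = true := by decide +kernel

theorem cov8 : T.cover 8 [(sel (ones 2) ip8 1)] = true := by decide +kernel

theorem tl8 : Nat.beq (T.let 8).tt 0 = true := by decide +kernel

theorem cov9 : T.cover 9 [1] = true := by decide +kernel

theorem tl9 : Nat.beq (T.let 9).tt 0 = true := by decide +kernel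

theorem rot10_1 : T.rot 10 [9] (sel (ones 2) ip10 1) = true := by decide +kernel

theorem rot10_1r : band (Rule.ok (2 * 6) EX RL ⟨10 :: [9], [], 16, false⟩) (lall (memL L) [9]) = true := by decide +kernel

theorem cov10 : T.cover 10 [(sel (ones 2) ip10 1)] = true := by decide +kernel

theorem tl10 : Nat.beq (T.let 10).tt 0 = true := by decide +kernel

theorem cov11 : T.cover 11 [1] = true := by decide +kernel

theorem tl11 : Nat.beq (T.let 11).tt 0 = true := by decide +kernel

theorem rot12_1 : T.rot 12 [11] (sel (ones 2) ip12 1) = true := by decide +kernel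

theorem rot12_1r : band (Rule.ok (2 * 6) EX RL ⟨12 :: [11], [], 16, false⟩) (lall (memL L) [11]) = true := by decide +kernel

theorem cov12 : T.cover 12 [(sel (ones 2) ip12 1)] = true := by decide +kernel

theorem tl12 : Nat.beq (T.let 12).tt 0 = true := by decide +kernel

theorem cov13 : T.cover 13 [1] = true := by decide +kernel

theorem tl13 : Nat.beq (T.let 13).tt 0 = true := by decide +kernel

theorem rot14_1 : T.rot 14 [13] (sel (ones 2) ip14 1) = true := by decide +kernel

theorem rot14_1r : band (Rule.ok (2 * 6) EX RL ⟨14 :: [13], [], 16, false⟩) (lall (memL L) [13]) = true := by decide +kernel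

theorem cov14 : T.cover 14 [(sel (ones 2) ip14 1)] = true := by decide +kernel

theorem tl14 : Nat.beq (T.let 14).tt 0 = true := by decide +kernel

theorem cov15 : T.cover 15 [1] = true := by decide +kernel

theorem tl15 : Nat.beq (T.let 15).tt 0 = true := by decide +kernel

theorem rot16_1 : T.rot 16 [15] (sel (ones 2) ip16 1) = true := by decide +kernel

theorem rot16_1r : band (Rule.ok (2 * 6) EX RL ⟨16 :: [15], [], 16, false⟩) (lall (memL L) [15]) = true := by decide +kernel

theorem cov16 : T.cover 16 [(sel (ones 2) ip16 1)] = true := by decide +kernel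

theorem tl16 : Nat.beq (T.let 16).tt 0 = true := by decide +kernel

end Cfsg.Agent.Spor.ONH2
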