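import Cfsg.Agent.Spor.Chk

set_option autoImplicit false
set_option maxRecDepth 100000000
set_option Elab.async false
noncomputable section

namespace Cfsg.Agent.Spor.ONH2

def m0_0 : Nat := nat_lit 0x1
def n0 : Net := Net.cons 1 m0_0 (Net.nil)

def m1_0 : Nat := nat_lit 0x1
def n1 : Net := Net.cons 1 m1_0 (Net.nil)

def m2_0 : Nat := nat_lit 0x1
def n2 : Net := Net.cons 1 m2_0 (Net.nil)

def m3_0 : Nat := nat_lit 0x1
def n3 : Net := Net.cons 1 m3_0 (Net.nil)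

def m4_0 : Nat := nat_lit 0x1
def n4 : Net := Net.cons 1 m4_0 (Net.nil)

def m5_0 : Nat := nat_lit 0x1
def n5 : Net := Net.cons 1 m5_0 (Net.nil)

def n6 : Net := Net.nil

def n7 : Net := Net.nil

def n8 : Net := Net.nil

def n9 : Net := Net.nil

def n10 : Net := Net.nil

def ip1 : List Nat := [0x2]
def l1 : Let := ⟨0, false, 0x3, 0x2, [0x2, 0x0]⟩

def ip2 : List Nat := [0x1, 0x2]
def l2 : Let := ⟨1, false, 0x3, 0x0, [0x2, 0x1]⟩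

def ip3 : List Nat := [0x1, 0x2]
def l3 : Let := ⟨2, false, 0x3, 0x0, [0x2, 0x1]⟩

def ip4 : List Nat := [0x1, 0x2]
def l4 : Let := ⟨3, false, 0x3, 0x0, [0x2, 0x1]⟩

def ip5 : List Nat := [0x1, 0x2]
def l5 : Let := ⟨4, false, 0x3, 0x0, [0x2, 0x1]⟩

def ip6 : List Nat := [0x1, 0x2]
def l6 : Let := ⟨5, false, 0x3, 0x0, [0x2, 0x1]⟩

def ip7 : List Nat := []
def l7 : Let := ⟨6, false, 0x1, 0x0, [0x0, 0x0]⟩

def ip8 : List Nat := [0x1]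
def l8 : Let := ⟨6, true, 0x1, 0x0, [0x1, 0x0]⟩

def ip9 : List Nat := []
def l9 : Let := ⟨7, false, 0x1, 0x0, [0x0, 0x0]⟩

def ip10 : List Nat := [0x1]
def l10 : Let := ⟨7, true, 0x1, 0x0, [0x1, 0x0]⟩

def ip11 : List Nat := []
def l11 : Let := ⟨8, false, 0x1, 0x0, [0x0, 0x0]⟩

def ip12 : List Nat := [0x1]
def l12 : Let := ⟨8, true, 0x1, 0x0, [0x1, 0x0]⟩

def ip13 : List Nat := []
def l13 : Let := ⟨9, false, 0x1, 0x0, [0x0, 0x0]⟩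

def ip14 : List Nat := [0x1]
def l14 : Let := ⟨9, true, 0x1, 0x0, [0x1, 0x0]⟩

def ip15 : List Nat := []
def l15 : Let := ⟨10, false, 0x1, 0x0, [0x0, 0x0]⟩

def ip16 : List Nat := [0x1]
def l16 : Let := ⟨10, true, 0x1, 0x0, [0x1, 0x0]⟩

def NT : List Net := [n0, n1, n2, n3, n4, n5, n6, n7, n8, n9, n10]
def LT : List Let := [⟨0, false, 0, 0, []⟩, l1, l2, l3, l4, l5, l6, l7, l8, l9, l10, l11, l12, l13, l14, l15, l16]
def T : Tab := ⟨NT, LT⟩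
def EX : List (List Nat) := [[], [0], [2], [4], [6], [8], [10], [0, 2], [2, 0], [0, 4], [4, 0], [0, 6], [6, 0], [0, 8], [8, 0], [0, 10], [10, 0]]
def RL : List (List Nat) := [[0, 2, 0, 2, 0, 2], [0, 4, 0, 4], [0, 6, 0, 6], [0, 8, 0, 8], [0, 10, 0, 10], [2, 4, 2, 4, 2, 4], [2, 6, 2, 6], [2, 8, 2, 8], [2, 10, 2, 10], [4, 6, 4, 6, 4, 6, 4, 6, 4, 6, 4, 6, 4, 6, 4, 6], [4, 8, 4, 8], [4, 10, 4, 10], [6, 8, 6, 8, 6, 8], [6, 10, 6, 10], [8, 10, 8, 10, 8, 10], [0, 10, 6, 4, 6, 4, 6, 4, 6, 4]]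
def XL : List (List Nat) := []
def BW : List (List Nat) := [[0, 2], [0, 4], [0, 6], [0, 8], [0, 10]]
def IV : Nat := 0xf100d0e0b0c090a070806050403020100
def L : List Nat := [1, 2, 3, 4, 5, 6, 7, 8, 9, 10, 11, 12, 13, 14, 15, 16]
def gs : List Nat := [1, 2, 3, 4, 5, 6]
def base : List Nat := [7, 9, 11, 13, 15]

end Cfsg.Agent.Spor.ONH2
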